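import Groth.Prelude.Def_CohCx
import Mathlib

/-!
# Mayer–Vietoris for hypercohomology
-/

set_option autoImplicit false
set_option linter.style.haveILetI false

universe w v u

open CategoryTheory CategoryTheory.Limits Pretriangulated DerivedCategory Opposite

noncomputable section

namespace Groth.Agent.HyperMV

variable {A : Type u} [Category.{v} A] [Abelian A] [HasDerivedCategory.{w} A]
  {P₁ P₂ P₃ P₄ : A} (a : P₁ ⟶ P₂) (b : P₁ ⟶ P₃) (c : P₂ ⟶ P₄) (d : P₃ ⟶ P₄)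
  (w₀ : biprod.lift a (-b) ≫ biprod.desc c d = 0)
  (hS : (ShortComplex.mk (biprod.lift a (-b)) (biprod.desc c d) w₀).ShortExact)
  (K : DerivedCategory A)

/-- The connecting homomorphism. -/
def delta (n : ℤ) : ((singleFunctor A 0).obj P₁ ⟶ K⟦n⟧) →+ ((singleFunctor A 0).obj P₄ ⟶ K⟦n + 1⟧) :=
  AddMonoidHom.mk' (fun x => hS.singleδ ≫ x⟦(1 : ℤ)⟧' ≫ (shiftFunctorAdd' _ n 1 (n + 1) rfl).inv.app K)
    fun x y => by rw [Functor.map_add, Preadditive.add_comp, Preadditive.comp_add]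

theorem map_single_sum (x₂ : (singleFunctor A 0).obj P₂ ⟶ K) (x₃ : (singleFunctor A 0).obj P₃ ⟶ K) :
    (singleFunctor A 0).map (biprod.inl : P₂ ⟶ P₂ ⊞ P₃) ≫
        ((singleFunctor A 0).map biprod.fst ≫ x₂ + (singleFunctor A 0).map biprod.snd ≫ x₃) = x₂ ∧
      (singleFunctor A 0).map (biprod.inr : P₃ ⟶ P₂ ⊞ P₃) ≫
        ((singleFunctor A 0).map biprod.fst ≫ x₂ + (singleFunctor A 0).map biprod.snd ≫ x₃) = x₃ := by
  constructor <;>
    rw [Preadditive.comp_add, ← Category.assoc, ← Category.assoc, ← Functor.map_comp, ← Functor.map_comp] <;>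
    simp

include hS in
theorem exact_middle {Z : DerivedCategory A} (x₂ : (singleFunctor A 0).obj P₂ ⟶ Z)
    (x₃ : (singleFunctor A 0).obj P₃ ⟶ Z)
    (h : (singleFunctor A 0).map a ≫ x₂ + -((singleFunctor A 0).map b ≫ x₃) = 0) :
    ∃ x₄ : (singleFunctor A 0).obj P₄ ⟶ Z,
      (singleFunctor A 0).map c ≫ x₄ = x₂ ∧ (singleFunctor A 0).map d ≫ x₄ = x₃ := by
  have e : (singleFunctor A 0).map (biprod.lift a (-b)) ≫
      ((singleFunctor A 0).map (biprod.fst : P₂ ⊞ P₃ ⟶ P₂) ≫ x₂ + (singleFunctor A 0).map biprod.snd ≫ x₃) = 0 := by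
    rw [Preadditive.comp_add, ← Category.assoc, ← Category.assoc, ← Functor.map_comp, ← Functor.map_comp,
      biprod.lift_fst, biprod.lift_snd, Functor.map_neg, Preadditive.neg_comp]
    exact h
  have key : ∃ x₄ : (singleFunctor A 0).obj P₄ ⟶ Z,
      (singleFunctor A 0).map (biprod.fst : P₂ ⊞ P₃ ⟶ P₂) ≫ x₂ + (singleFunctor A 0).map biprod.snd ≫ x₃ =
        (singleFunctor A 0).map (biprod.desc c d) ≫ x₄ :=
    Triangle.yoneda_exact₂ _ hS.singleTriangle_distinguished _ e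
  obtain ⟨x₄, hx⟩ := key
  refine ⟨x₄, ?_, ?_⟩
  · refine Eq.trans ?_ (map_single_sum (P₂ := P₂) (P₃ := P₃) Z x₂ x₃).1
    rw [hx, ← Category.assoc, ← Functor.map_comp, biprod.inl_desc]
  · refine Eq.trans ?_ (map_single_sum (P₂ := P₂) (P₃ := P₃) Z x₂ x₃).2
    rw [hx, ← Category.assoc, ← Functor.map_comp, biprod.inr_desc]

include hS in
theorem exact_right (n : ℤ) (x₁ : (singleFunctor A 0).obj P₁ ⟶ K⟦n⟧) (h : delta a b c d w₀ hS K n x₁ = 0) :
    ∃ (x₂ : (singleFunctor A 0).obj P₂ ⟶ K⟦n⟧) (x₃ : (singleFunctor A 0).obj P₃ ⟶ K⟦n⟧),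
      (singleFunctor A 0).map a ≫ x₂ + -((singleFunctor A 0).map b ≫ x₃) = x₁ := by
  have h' : hS.singleδ ≫ x₁⟦(1 : ℤ)⟧' = 0 := by
    rw [← cancel_mono ((shiftFunctorAdd' (DerivedCategory A) n 1 (n + 1) rfl).inv.app K), zero_comp,
      Category.assoc]
    exact h
  obtain ⟨g, hg⟩ := Triangle.yoneda_exact₃ _ (rot_of_distTriang _ hS.singleTriangle_distinguished)
    (x₁⟦(1 : ℤ)⟧') h'
  obtain ⟨g', rfl⟩ := (shiftFunctor (DerivedCategory A) (1 : ℤ)).map_surjective g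
  have h₁ : x₁ = -((singleFunctor A 0).map (biprod.lift a (-b)) ≫ g') := by
    apply (shiftFunctor (DerivedCategory A) (1 : ℤ)).map_injective
    rw [Functor.map_neg, Functor.map_comp]
    refine hg.trans ?_
    exact Preadditive.neg_comp _ _
  refine ⟨-((singleFunctor A 0).map biprod.inl ≫ g'), -((singleFunctor A 0).map biprod.inr ≫ g'), ?_⟩
  have e : biprod.lift a (-b) = a ≫ biprod.inl + -(b ≫ biprod.inr) := by ext <;> simp
  rw [h₁, e, Functor.map_add, Functor.map_neg, Functor.map_comp, Functor.map_comp, Preadditive.add_comp,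
    Preadditive.neg_comp, Category.assoc, Category.assoc, Preadditive.comp_neg, Preadditive.comp_neg]
  abel

include hS in
theorem exact_left (n : ℤ) (x₄ : (singleFunctor A 0).obj P₄ ⟶ K⟦n + 1⟧)
    (h₂ : (singleFunctor A 0).map c ≫ x₄ = 0) (h₃ : (singleFunctor A 0).map d ≫ x₄ = 0) :
    ∃ x₁, delta a b c d w₀ hS K n x₁ = x₄ := by
  have e : (singleFunctor A 0).map (biprod.desc c d) ≫ x₄ = 0 := by
    rw [biprod.desc_eq, Functor.map_add, Functor.map_comp, Functor.map_comp, Preadditive.add_comp,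
      Category.assoc, Category.assoc, h₂, h₃, comp_zero, comp_zero, add_zero]
  have key : ∃ g : ((singleFunctor A 0).obj P₁)⟦(1 : ℤ)⟧ ⟶ K⟦n + 1⟧, x₄ = hS.singleδ ≫ g :=
    Triangle.yoneda_exact₃ _ hS.singleTriangle_distinguished x₄ e
  obtain ⟨g, hg⟩ := key
  obtain ⟨x₁, hx₁⟩ := (shiftFunctor (DerivedCategory A) (1 : ℤ)).map_surjective
    (g ≫ (shiftFunctorAdd' (DerivedCategory A) n 1 (n + 1) rfl).hom.app K)
  refine ⟨x₁, ?_⟩
  show hS.singleδ ≫ x₁⟦(1 : ℤ)⟧' ≫ _ = x₄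
  rw [hx₁, Category.assoc, Iso.hom_inv_id_app, Category.comp_id]
  exact hg.symm

include hS in
theorem delta_comp (n : ℤ) (x₂ : (singleFunctor A 0).obj P₂ ⟶ K⟦n⟧) (x₃ : (singleFunctor A 0).obj P₃ ⟶ K⟦n⟧) :
    delta a b c d w₀ hS K n ((singleFunctor A 0).map a ≫ x₂ + -((singleFunctor A 0).map b ≫ x₃)) = 0 := by
  have e : (singleFunctor A 0).map a ≫ x₂ + -((singleFunctor A 0).map b ≫ x₃) =
      (singleFunctor A 0).map (biprod.lift a (-b)) ≫
        ((singleFunctor A 0).map biprod.fst ≫ x₂ + (singleFunctor A 0).map biprod.snd ≫ x₃) := by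
    rw [Preadditive.comp_add, ← Category.assoc, ← Category.assoc, ← Functor.map_comp, ← Functor.map_comp,
      biprod.lift_fst, biprod.lift_snd, Functor.map_neg, Preadditive.neg_comp]
  rw [e]
  show hS.singleδ ≫ (shiftFunctor _ (1 : ℤ)).map (_ ≫ _) ≫ _ = 0
  rw [Functor.map_comp, ← Category.assoc, ← Category.assoc]
  have h0 : hS.singleδ ≫ (shiftFunctor _ (1 : ℤ)).map ((singleFunctor A 0).map (biprod.lift a (-b))) = 0 :=
    comp_distTriang_mor_zero₃₁ _ hS.singleTriangle_distinguished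
  rw [h0, zero_comp, zero_comp]

include hS in
theorem comp_delta (n : ℤ) (x₁ : (singleFunctor A 0).obj P₁ ⟶ K⟦n⟧) :
    (singleFunctor A 0).map c ≫ delta a b c d w₀ hS K n x₁ = 0 ∧
      (singleFunctor A 0).map d ≫ delta a b c d w₀ hS K n x₁ = 0 := by
  have h0 : (singleFunctor A 0).map (biprod.desc c d) ≫ hS.singleδ = 0 :=
    comp_distTriang_mor_zero₂₃ _ hS.singleTriangle_distinguished
  have h : (singleFunctor A 0).map (biprod.desc c d) ≫ delta a b c d w₀ hS K n x₁ = 0 :=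
    (Category.assoc _ _ _).symm.trans ((congrArg (· ≫ _) h0).trans zero_comp)
  constructor
  · have := congrArg ((singleFunctor A 0).map (biprod.inl : P₂ ⟶ P₂ ⊞ P₃) ≫ ·) h
    simpa [← Functor.map_comp_assoc] using this
  · have := congrArg ((singleFunctor A 0).map (biprod.inr : P₃ ⟶ P₂ ⊞ P₃) ≫ ·) h
    simpa [← Functor.map_comp_assoc] using this

include w₀ in
theorem sum_comp {Z : DerivedCategory A} (x₄ : (singleFunctor A 0).obj P₄ ⟶ Z) :
    (singleFunctor A 0).map a ≫ (singleFunctor A 0).map c ≫ x₄ +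
      -((singleFunctor A 0).map b ≫ (singleFunctor A 0).map d ≫ x₄) = 0 := by
  have e : a ≫ c + -(b ≫ d) = 0 := by
    have := w₀
    rw [biprod.lift_desc, Preadditive.neg_comp] at this
    exact this
  rw [← Category.assoc, ← Category.assoc, ← Functor.map_comp, ← Functor.map_comp, ← Preadditive.neg_comp,
    ← Functor.map_neg, ← Preadditive.add_comp, ← Functor.map_add, e, Functor.map_zero, zero_comp]

/-- A short sequence of groups, exact elementwise. -/
theorem exact_mk₂ {G₁ G₂ G₃ : Type w} [AddCommGroup G₁] [AddCommGroup G₂] [AddCommGroup G₃]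
    (f : G₁ →+ G₂) (g : G₂ →+ G₃) (h0 : ∀ x, g (f x) = 0) (h : ∀ y, g y = 0 → ∃ x, f x = y) :
    (ComposableArrows.mk₂ (AddCommGrpCat.ofHom f) (AddCommGrpCat.ofHom g)).Exact :=
  ((ShortComplex.ab_exact_iff (ShortComplex.mk (AddCommGrpCat.ofHom f) (AddCommGrpCat.ofHom g)
    (AddCommGrpCat.hom_ext (AddMonoidHom.ext h0)))).2 h).exact_toComposableArrows

section MV

variable {C : Type u} [SmallCategory C] {J : GrothendieckTopology C} [HasWeakSheafify J (Type u)]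
  [HasDerivedCategory.{u} (Sheaf J AddCommGrpCat.{u})]

theorem exists_mayerVietoris (S : J.MayerVietorisSquare) (K : DerivedCategory (Sheaf J AddCommGrpCat.{u})) :
    ∃ δ : ∀ n : ℤ, CohCx.HDU K n S.X₁ →+ CohCx.HDU K (n + 1) S.X₄,
      ∀ n : ℤ,
        (ComposableArrows.mk₂
          (AddCommGrpCat.ofHom ((CohCx.HDUres K n S.f₂₄).prod (CohCx.HDUres K n S.f₃₄)))
          (AddCommGrpCat.ofHom ((CohCx.HDUres K n S.f₁₂).coprod (-(CohCx.HDUres K n S.f₁₃))))).Exact ∧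
        (ComposableArrows.mk₂
          (AddCommGrpCat.ofHom ((CohCx.HDUres K n S.f₁₂).coprod (-(CohCx.HDUres K n S.f₁₃))))
          (AddCommGrpCat.ofHom (δ n))).Exact ∧
        (ComposableArrows.mk₂ (AddCommGrpCat.ofHom (δ n))
          (AddCommGrpCat.ofHom ((CohCx.HDUres K (n + 1) S.f₂₄).prod (CohCx.HDUres K (n + 1) S.f₃₄)))).Exact := by
  let a := CohCx.freeSheafMap J S.f₁₂
  let b := CohCx.freeSheafMap J S.f₁₃
  let c := CohCx.freeSheafMap J S.f₂₄
  let d := CohCx.freeSheafMap J S.f₃₄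
  have w₀ : biprod.lift a (-b) ≫ biprod.desc c d = 0 := S.shortComplex.zero
  have hS : (ShortComplex.mk (biprod.lift a (-b)) (biprod.desc c d) w₀).ShortExact :=
    S.shortComplex_shortExact
  refine ⟨fun n => delta a b c d w₀ hS K n, fun n => ⟨exact_mk₂ _ _ ?_ ?_, exact_mk₂ _ _ ?_ ?_,
    exact_mk₂ _ _ ?_ ?_⟩⟩
  · exact fun x => sum_comp a b c d w₀ x
  · rintro ⟨x₂, x₃⟩ hx
    obtain ⟨x₄, h₂, h₃⟩ := exact_middle a b c d w₀ hS x₂ x₃ hx
    exact ⟨x₄, Prod.ext h₂ h₃⟩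
  · exact fun x => delta_comp a b c d w₀ hS K n x.1 x.2
  · intro x₁ hx
    obtain ⟨x₂, x₃, h⟩ := exact_right a b c d w₀ hS K n x₁ hx
    exact ⟨(x₂, x₃), h⟩
  · exact fun x => Prod.ext (comp_delta a b c d w₀ hS K n x).1 (comp_delta a b c d w₀ hS K n x).2
  · intro x₄ hx
    exact exact_left a b c d w₀ hS K n x₄ (congrArg Prod.fst hx) (congrArg Prod.snd hx)

end MV

end Groth.Agent.HyperMV
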